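import Cfsg.Agent.CharExt.Extension
import Cfsg.Agent.CharExt.Linear
import Cfsg.Agent.CharExt.Gallagher
import Cfsg.Agent.CharExt.Inertia
import Cfsg.Agent.Lib.ClassSize
import Cfsg.Agent.CharInd.Correspondence
import Cfsg.Agent.CharInd.BrauerPerm
import Cfsg.Agent.Char.InvolutionCount
import Cfsg.Agent.Coprime.Conj
import Cfsg.Agent.FGSev.PPowerIndex
import Cfsg.Agent.S4445

/-!
# One irreducible character of degree divisible by `p` and a normal `p`-complement

The quotient is abelian, it has one orbit of non-invariant characters and classes of the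
complement, regular, and exactly one class of size divisible by `p`.
-/

set_option autoImplicit false
set_option linter.unusedSectionVars false
set_option linter.style.haveILetI false

namespace Cfsg.Agent.Char9

open Subgroup Cfsg.Agent
open scoped ComplexConjugate Pointwise commutatorElement Classical

universe u

variable {G : Type u} [Group G] [Fintype G] {p : ℕ} [hp : Fact p.Prime] (N : Subgroup G)
  [hN : N.Normal]

theorem charDegree_eq {X : Type u} [Group X] {χ : X → ℂ} {n : ℕ} (h : χ 1 = (n : ℂ)) :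
    Cfsg.charDegree χ = n := by
  rw [Cfsg.charDegree, h, Complex.natCast_re, Nat.floor_natCast]

/-- Inflation of an irreducible character of the quotient. -/
theorem infl_irr {β : G ⧸ N → ℂ} (hβ : Cfsg.IsIrrCharacter (G ⧸ N) β) :
    Cfsg.IsIrrCharacter G (β ∘ QuotientGroup.mk' N) :=
  Char.isIrrCharacter_comp hβ _ (QuotientGroup.mk'_surjective N)

theorem infl_inv (β : G ⧸ N → ℂ) (n : N) (g : G) :
    (β ∘ QuotientGroup.mk' N) ((n : G) * g) = (β ∘ QuotientGroup.mk' N) g := by
  have : QuotientGroup.mk' N (n : G) = 1 := (QuotientGroup.eq_one_iff _).2 n.2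
  simp only [Function.comp_apply, map_mul, this, one_mul]

variable (hcop : (Nat.card N).Coprime p) {k : ℕ} (hidx : N.index = p ^ k)
include hcop hidx

/-- Invariant characters of the complement extend. -/
theorem exists_extension {θ : N → ℂ} (hθ : Cfsg.IsIrrCharacter N θ)
    (hinv : ∀ g : G, g ∈ CharInd.conjStab N θ) :
    ∃ ξ : G → ℂ, Cfsg.IsIrrCharacter G ξ ∧ ∀ n : N, ξ n = θ n := by
  obtain ⟨d, -, hd⟩ := Char.irr_one_pos hθ
  have hdN : d ∣ Nat.card N := by
    obtain ⟨d', -, hd', hdv⟩ := Char.irr_degree_dvd_card hθ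
    rwa [Nat.cast_inj.1 (hd'.symm.trans hd)] at hdv
  have hinv' : ∀ (g : G) (n : N), θ (CharExt.cj N g n) = θ n := fun g n =>
    congrFun ((CharInd.mem_conjStab N).1 (hinv g)) n
  have hlin := CharExt.detChar_isLin θ
  have hord : orderOf hlin.toHom ∣ Nat.card N := by
    refine orderOf_dvd_of_pow_eq_one (MonoidHom.ext fun n => ?_)
    show hlin.toHom n ^ Nat.card N = 1
    rw [← map_pow, pow_card_eq_one', map_one]
  have hc : N.index.Coprime (Nat.card N) := by
    rw [hidx]; exact (Nat.Coprime.pow_left k hcop.symm)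
  obtain ⟨μ, ⟨hμ, -⟩, -⟩ := CharExt.exists_unique_coprime_extension N hlin.toHom
    (fun g n => Units.ext (CharExt.detChar_inv N (Char.isCharacter_of_irr hθ) hinv' g n))
    (hc.coprime_dvd_right hord)
  obtain ⟨ξ, hξ, hres, -⟩ := CharExt.exists_char_extension N θ hθ hinv' d hd
    (hc.coprime_dvd_right hdN) (CharExt.homVal μ) (CharExt.homVal_isLin μ) (fun n => by
      show (μ n : ℂ) = _
      rw [hμ]; rfl)
  exact ⟨ξ, hξ, hres⟩

/-- The `p`-part and `p'`-part of an element. -/
theorem exists_parts (g : G) : ∃ e e' : ℕ, (∀ x : G, (x ^ e) ^ p ^ k = 1) ∧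
    (∀ x : G, x ^ e' ∈ N) ∧ g = g ^ e * g ^ e' := by
  have hc : N.index.Coprime (Nat.card N) := by
    rw [hidx]; exact (Nat.Coprime.pow_left k hcop.symm)
  obtain ⟨e, he1, he2⟩ := Nat.chineseRemainder hc 1 0
  obtain ⟨e', he1', he2'⟩ := Nat.chineseRemainder hc 0 1
  refine ⟨e, e', fun x => ?_, fun x => ?_, ?_⟩
  · rw [← pow_mul, ← hidx]
    refine orderOf_dvd_iff_pow_eq_one.1 ((orderOf_dvd_natCard x).trans ?_)
    rw [← N.card_mul_index]
    exact Nat.mul_dvd_mul (Nat.modEq_zero_iff_dvd.1 he2) dvd_rfl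
  · obtain ⟨s, hs⟩ := Nat.modEq_zero_iff_dvd.1 he1'
    rw [hs, pow_mul]
    exact pow_mem (N.pow_index_mem x) s
  · rw [← pow_add]
    conv_lhs => rw [← pow_one g]
    refine pow_eq_pow_iff_modEq.2 (Nat.ModEq.of_dvd (orderOf_dvd_natCard g) ?_)
    rw [← N.card_mul_index, mul_comm]
    refine (Nat.modEq_and_modEq_iff_modEq_mul hc).1 ⟨?_, ?_⟩
    · exact (by simpa using he1.add he1' : e + e' ≡ 1 [MOD N.index]).symm
    · exact (by simpa using he2.add he2' : e + e' ≡ 1 [MOD Nat.card N]).symm

/-- A `p`-element in the kernel is trivial. -/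
theorem eq_one_of_mem {x : G} (hx : x ^ p ^ k = 1) (hxN : x ∈ N) : x = 1 :=
  orderOf_eq_one_iff.1 (Nat.eq_one_of_dvd_coprimes (Nat.Coprime.pow_right k hcop)
    (Subgroup.orderOf_dvd_natCard N hxN) (orderOf_dvd_of_pow_eq_one hx))

/-- A class size is prime to `p` iff the centraliser covers the quotient. -/
theorem dvd_card_carrier_iff (g : G) :
    p ∣ Nat.card (ConjClasses.mk g).carrier ↔ centralizer ({g} : Set G) ⊔ N ≠ ⊤ := by
  have hcard : Nat.card (ConjClasses.mk g).carrier = (centralizer ({g} : Set G)).index :=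
    ClassSize.natCard_carrier g
  rw [hcard]
  set C := centralizer ({g} : Set G)
  constructor
  · intro hd htop
    have h1 : N.relIndex C = N.index := by
      rw [← Subgroup.relIndex_top_right, ← htop, Subgroup.relIndex_sup_right]
    have h2 : Nat.card ↥(N ⊓ C) * N.relIndex C = Nat.card C := by
      rw [← Subgroup.inf_relIndex_right, ← Subgroup.relIndex_bot_left,
        Subgroup.relIndex_mul_relIndex _ _ _ bot_le inf_le_right, Subgroup.relIndex_bot_left]
    have h3 : C.index * Nat.card ↥(N ⊓ C) = Nat.card N := by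
      refine Nat.eq_of_mul_eq_mul_right (Nat.pos_of_ne_zero Subgroup.index_ne_zero_of_finite :
        0 < N.index) ?_
      rw [N.card_mul_index, ← C.card_mul_index, ← h2, h1]
      ring
    exact hp.out.ne_one (Nat.eq_one_of_dvd_coprimes hcop.symm dvd_rfl
      (hd.trans ⟨_, h3.symm⟩))
  · intro hne
    have h1 : (C ⊔ N).index ∣ p ^ k := hidx ▸ Subgroup.index_dvd_of_le le_sup_right
    obtain ⟨j, -, hj⟩ := (Nat.dvd_prime_pow hp.out).1 h1
    have hj0 : j ≠ 0 := fun e => hne (Subgroup.index_eq_one.1 (by rw [hj, e, pow_zero]))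
    exact (dvd_pow_self p hj0).trans (hj ▸ Subgroup.index_dvd_of_le le_sup_left)

/-- With an abelian quotient the centraliser of a `p`-element `x` and a commuting `u` covers the
quotient as soon as that of `u` does. -/
theorem centralizer_mul_sup (hab : ∀ a b : G, ⁅a, b⁆ ∈ N) {x u : G} (hx : x ^ p ^ k = 1)
    (hxu : Commute x u) (hu : centralizer ({u} : Set G) ⊔ N = ⊤) :
    centralizer ({x * u} : Set G) ⊔ N = ⊤ := by
  set H := centralizer ({u} : Set G) with hH
  let xH : H := ⟨x, mem_centralizer_singleton_iff.2 hxu.eq⟩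
  have hzp : IsPGroup p (zpowers xH) := by
    obtain ⟨j, -, hj⟩ := (Nat.dvd_prime_pow hp.out).1
      (orderOf_dvd_of_pow_eq_one (show xH ^ p ^ k = 1 from Subtype.ext (by simpa [xH] using hx)))
    exact IsPGroup.of_card (n := j) (by rw [Nat.card_zpowers, hj])
  obtain ⟨S, hS⟩ := hzp.exists_le_sylow
  set S' := (S : Subgroup H).map H.subtype with hS'
  obtain ⟨m, hm⟩ := S.2.exists_card_eq
  have hcS : Nat.card S' = p ^ m := by
    rw [hS', Subgroup.card_map_of_injective H.subtype_injective]; exact hm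
  have hinj : ∀ a ∈ S', a ∈ N → a = 1 := fun a ha haN =>
    orderOf_eq_one_iff.1 (Nat.eq_one_of_dvd_coprimes (Nat.Coprime.pow_right m hcop)
      (Subgroup.orderOf_dvd_natCard N haN) (hcS ▸ Subgroup.orderOf_dvd_natCard S' ha))
  have hxS : x ∈ S' := ⟨xH, hS (mem_zpowers xH), rfl⟩
  have hle : S' ≤ centralizer ({x * u} : Set G) := by
    intro a ha
    have hau : a * u = u * a := by
      obtain ⟨b, -, rfl⟩ := ha
      exact mem_centralizer_singleton_iff.1 b.2
    have hax : a * x = x * a :=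
      commutatorElement_eq_one_iff_mul_comm.1 (hinj _
        (mul_mem (mul_mem (mul_mem ha hxS) (inv_mem ha)) (inv_mem hxS)) (hab a x))
    rw [mem_centralizer_singleton_iff]
    rw [← mul_assoc, hax, mul_assoc, hau, mul_assoc]
  -- `S'` covers the quotient
  have htop : S' ⊔ N = ⊤ := by
    have h1 : N.relIndex H = p ^ k := by
      rw [← hidx, ← Subgroup.relIndex_top_right, ← hu, Subgroup.relIndex_sup_right]
    have h2 : p ^ k ∣ Nat.card H := h1 ▸ Subgroup.relIndex_dvd_card N H
    have h3 : p ^ k ∣ Nat.card S' := by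
      rw [hcS, ← hm, Sylow.card_eq_multiplicity S]
      exact Nat.pow_dvd_pow p ((hp.out.pow_dvd_iff_le_factorization Nat.card_pos.ne').1 h2)
    have h4 : N.relIndex S' = Nat.card S' := by
      rw [← Subgroup.inf_relIndex_right, show N ⊓ S' = ⊥ from
        eq_bot_iff.2 fun a ha => Subgroup.mem_bot.2 (hinj a ha.2 ha.1), Subgroup.relIndex_bot_left]
    refine Subgroup.index_eq_one.1 ?_
    have h5 := Subgroup.relIndex_mul_index (show N ≤ S' ⊔ N from le_sup_right)
    rw [Subgroup.relIndex_sup_right, h4, hidx] at h5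
    have h6 : p ^ k ≤ Nat.card S' := Nat.le_of_dvd Nat.card_pos h3
    rcases Nat.lt_or_ge (S' ⊔ N).index 2 with h | h
    · have : (S' ⊔ N).index ≠ 0 := Subgroup.index_ne_zero_of_finite
      omega
    · have : Nat.card S' * 2 ≤ p ^ k := h5 ▸ Nat.mul_le_mul_left _ h
      have : 0 < Nat.card S' := Nat.card_pos
      omega
  exact eq_top_iff.2 (htop ▸ sup_le_sup_right hle N)

variable (hone : Nat.card {χ : Cfsg.IrrCharacter G // p ∣ Cfsg.charDegree (χ : G → ℂ)} = 1)
  (hnil : ¬ Group.IsNilpotent G)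
include hone hnil

omit hcop hidx hnil in
theorem singular_unique {χ φ : G → ℂ} (hχ : Cfsg.IsIrrCharacter G χ)
    (hφ : Cfsg.IsIrrCharacter G φ) (h1 : p ∣ Cfsg.charDegree χ) (h2 : p ∣ Cfsg.charDegree φ) :
    χ = φ := by
  have := (Nat.card_eq_one_iff_unique.1 hone).1
  exact congrArg (fun a : {χ : Cfsg.IrrCharacter G // p ∣ Cfsg.charDegree (χ : G → ℂ)} =>
    (a.1 : G → ℂ)) (Subsingleton.elim ⟨⟨χ, hχ⟩, h1⟩ ⟨⟨φ, hφ⟩, h2⟩)

omit hone hnil in
/-- A character above a moved character has degree divisible by `p`. -/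
theorem dvd_of_moved {φ : G → ℂ} (hφ : Cfsg.IsIrrCharacter G φ) {θ : N → ℂ}
    (hθ : Cfsg.IsIrrCharacter N θ) (h0 : Cfsg.classInner (fun n : N => φ n) θ ≠ 0)
    (hmoved : CharInd.conjStab N θ ≠ ⊤) : p ∣ Cfsg.charDegree φ := by
  have hcl := CharInd.clifford N hφ hθ h0
  obtain ⟨e, he⟩ := Char.isCharacter_classInner_nat
    (CharInd.isCharacter_res N (Char.isCharacter_of_irr hφ)) ⟨θ, hθ⟩
  rw [show Cfsg.classInner (fun n : N => φ n) θ = (e : ℂ) from he] at hcl
  obtain ⟨d, -, hd⟩ := Char.irr_one_pos hθ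
  have h1 := congrFun hcl 1
  simp only [Pi.smul_apply, Finset.sum_apply, smul_eq_mul, OneMemClass.coe_one] at h1
  have hval : ∀ ψ ∈ CharInd.conjClass N θ, ψ 1 = (d : ℂ) := by
    intro ψ hψ
    obtain ⟨x, rfl⟩ := (CharInd.mem_conjClass N).1 hψ
    rw [CharInd.conjChar_apply, ← hd]
    exact congrArg _ (Subtype.ext (by simp))
  rw [Finset.sum_congr rfl hval, Finset.sum_const, nsmul_eq_mul, CharInd.card_conjClass,
    ← Nat.cast_mul, ← Nat.cast_mul] at h1
  rw [charDegree_eq h1]
  obtain ⟨j, -, hj⟩ := (Nat.dvd_prime_pow hp.out).1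
    (hidx ▸ Subgroup.index_dvd_of_le (CharInd.le_conjStab N (Char.irr_isClassFunction hθ)))
  have hj0 : j ≠ 0 := fun e => hmoved (Subgroup.index_eq_one.1 (by rw [hj, e, pow_zero]))
  exact ((dvd_pow_self p hj0).trans (dvd_of_eq hj.symm)).trans
    ((dvd_mul_right _ _).trans (dvd_mul_left _ _))

/-- The quotient has no irreducible character of degree divisible by `p`. -/
theorem quot_degree (β : Cfsg.IrrCharacter (G ⧸ N)) :
    ¬ p ∣ Cfsg.charDegree (β : G ⧸ N → ℂ) := by
  intro hd
  obtain ⟨b, -, hb⟩ := Char.irr_one_pos β.2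
  rw [charDegree_eq hb] at hd
  set φ₀ : G → ℂ := (β : G ⧸ N → ℂ) ∘ QuotientGroup.mk' N with hφ₀
  have hφ₀i : Cfsg.IsIrrCharacter G φ₀ := infl_irr N β.2
  have hφ₀1 : φ₀ 1 = (b : ℂ) := by simp only [hφ₀, Function.comp_apply, map_one, hb]
  have hN1 : ¬ Nat.card N = 1 := fun e => hnil
    (IsPGroup.isNilpotent (IsPGroup.of_card (p := p) (n := k) (by
      rw [← N.card_mul_index, e, one_mul, hidx])))
  obtain ⟨θ, hθ⟩ : ∃ θ : Cfsg.IrrCharacter N, (θ : N → ℂ) ≠ fun _ => 1 := by
    by_contra hall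
    simp only [not_exists, ne_eq, not_not] at hall
    haveI : Subsingleton (Cfsg.IrrCharacter N) :=
      ⟨fun a b => Subtype.ext ((hall a).trans (hall b).symm)⟩
    refine hN1 ?_
    have h := Char.sum_irr_degree_sq (G := N)
    rw [Fintype.sum_subsingleton _ (Char.trivialIrr N)] at h
    have : (1 : ℂ) = (Nat.card N : ℂ) := by simpa [Char.trivialIrr] using h
    exact_mod_cast this.symm
  by_cases hinv : CharInd.conjStab N (θ : N → ℂ) = ⊤
  · obtain ⟨ξ, hξ, hres⟩ := exists_extension N hcop hidx θ.2 fun g => hinv ▸ Subgroup.mem_top g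
    have hξN : Cfsg.IsIrrCharacter N (fun n : N => ξ n) := (funext hres) ▸ θ.2
    have hi := CharExt.isIrrCharacter_mul N ξ hξ hξN hφ₀i (infl_inv N _)
    obtain ⟨d, -, hd'⟩ := Char.irr_one_pos θ.2
    have h1 : (φ₀ * ξ) 1 = ((b * d : ℕ) : ℂ) := by
      rw [Pi.mul_apply, hφ₀1, Nat.cast_mul, ← hd', ← hres, OneMemClass.coe_one]
    have he := singular_unique hone hi hφ₀i (by
      rw [charDegree_eq h1]; exact hd.mul_right d) (by rw [charDegree_eq hφ₀1]; exact hd)
    refine hθ (funext fun n => ?_)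
    have h2 := congrFun he (n : G)
    have h3 : φ₀ (n : G) = (b : ℂ) := by
      have := infl_inv N (β : G ⧸ N → ℂ) n 1
      rw [mul_one] at this
      rw [hφ₀, this, ← hφ₀, hφ₀1]
    have hb0 : (b : ℂ) ≠ 0 := by rw [← hb]; exact Char.irr_one_ne_zero β.2
    rw [Pi.mul_apply, h3, hres] at h2
    exact mul_left_cancel₀ hb0 (h2.trans (mul_one _).symm)
  · obtain ⟨φ, m, hm, hφ⟩ := Char.exists_irr_constituent
      (CharInd.isCharacter_indFun N (Char.isCharacter_of_irr θ.2)) (fun e => by
        have h := congrFun e 1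
        rw [CharInd.indFun_one_apply, Pi.zero_apply, mul_eq_zero] at h
        exact h.elim (Nat.cast_ne_zero.2 Subgroup.index_ne_zero_of_finite)
          (Char.irr_one_ne_zero θ.2))
    have h0 : Cfsg.classInner (fun n : N => (φ : G → ℂ) n) (θ : N → ℂ) ≠ 0 := by
      rw [CharInd.classInner_indFun_left N _ (Char.irr_isClassFunction φ.2)] at hφ
      rw [← Char.classInner_conj, hφ, map_natCast]
      exact_mod_cast hm.ne'
    have he := singular_unique hone φ.2 hφ₀i (dvd_of_moved N hcop hidx φ.2 θ.2 h0 hinv)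
      (by rw [charDegree_eq hφ₀1]; exact hd)
    apply h0
    have : (fun n : N => (φ : G → ℂ) n) = (b : ℂ) • fun _ : N => (1 : ℂ) := by
      funext n
      have := infl_inv N (β : G ⧸ N → ℂ) n 1
      rw [mul_one] at this
      rw [he, Pi.smul_apply, smul_eq_mul, mul_one, hφ₀, this, ← hφ₀, hφ₀1]
    rw [this, Char.classInner_smul_left,
      Char.classInner_irr_ne Char.isIrrCharacter_const_one θ.2 (fun e => hθ e.symm), mul_zero]

theorem quot_linear (β : Cfsg.IrrCharacter (G ⧸ N)) : (β : G ⧸ N → ℂ) 1 = 1 := by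
  obtain ⟨b, -, hb⟩ := Char.irr_one_pos β.2
  have h1 := quot_degree N hcop hidx hone hnil β
  rw [charDegree_eq hb] at h1
  obtain ⟨b', -, hb', h2⟩ := Char.irr_degree_dvd_card β.2
  rw [Nat.cast_inj.1 (hb'.symm.trans hb), ← Subgroup.index_eq_card, hidx] at h2
  obtain ⟨j, -, rfl⟩ := (Nat.dvd_prime_pow hp.out).1 h2
  cases j with
  | zero => rw [hb, pow_zero, Nat.cast_one]
  | succ j => exact absurd (dvd_pow_self p j.succ_ne_zero) h1

theorem commutator_mem (a b : G) : ⁅a, b⁆ ∈ N := by
  refine (QuotientGroup.eq_one_iff _).1 ?_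
  by_contra hne
  have h := Char.sum_irr_degree_mul (G := G ⧸ N) (QuotientGroup.mk' N ⁅a, b⁆)
  rw [if_neg (show ¬ QuotientGroup.mk' N ⁅a, b⁆ = 1 from hne)] at h
  have h1 : ∀ β : Cfsg.IrrCharacter (G ⧸ N),
      (β : G ⧸ N → ℂ) 1 * (β : G ⧸ N → ℂ) (QuotientGroup.mk' N ⁅a, b⁆) = 1 := by
    intro β
    have hlin := CharExt.isLin_of_isCharacter (Char.isCharacter_of_irr β.2)
      (quot_linear N hcop hidx hone hnil β)
    rw [quot_linear N hcop hidx hone hnil β, one_mul, map_commutatorElement, ← hlin.toHom_apply]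
    rw [map_commutatorElement, commutatorElement_eq_one_iff_mul_comm.2 (mul_comm _ _),
      Units.val_one]
  rw [Finset.sum_congr rfl fun β _ => h1 β, Finset.sum_const, nsmul_one, Nat.cast_eq_zero,
    Finset.card_univ, Fintype.card_eq_zero_iff] at h
  exact h.false (Char.trivialIrr _)

/-- Above an invariant character the degrees are prime to `p`. -/
theorem not_dvd_of_invariant {φ : G → ℂ} (hφ : Cfsg.IsIrrCharacter G φ) {θ : N → ℂ}
    (hθ : Cfsg.IsIrrCharacter N θ) (h0 : Cfsg.classInner (fun n : N => φ n) θ ≠ 0)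
    (hinv : CharInd.conjStab N θ = ⊤) : ¬ p ∣ Cfsg.charDegree φ := by
  obtain ⟨ξ, hξ, hres⟩ := exists_extension N hcop hidx hθ fun g => hinv ▸ Subgroup.mem_top g
  have hξN : Cfsg.IsIrrCharacter N (fun n : N => ξ n) := (funext hres) ▸ hθ
  obtain ⟨β, hβ⟩ : ∃ β : Cfsg.IrrCharacter (G ⧸ N),
      φ = ((β : G ⧸ N → ℂ) ∘ QuotientGroup.mk' N) * ξ := by
    by_contra hall
    simp only [not_exists] at hall
    apply h0
    have hsum : ∀ g : G, ∑ β : Cfsg.IrrCharacter (G ⧸ N), (β : G ⧸ N → ℂ) (QuotientGroup.mk' N g) =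
        if g ∈ N then (N.index : ℂ) else 0 := by
      intro g
      have h := Char.sum_irr_degree_mul (G := G ⧸ N) (QuotientGroup.mk' N g)
      rw [Finset.sum_congr rfl (g := fun β : Cfsg.IrrCharacter (G ⧸ N) =>
        (β : G ⧸ N → ℂ) (QuotientGroup.mk' N g)) (fun β _ => by
          rw [quot_linear N hcop hidx hone hnil β, one_mul])] at h
      rw [h, Subgroup.index_eq_card]
      exact if_congr (QuotientGroup.eq_one_iff g) rfl rfl
    have hz : ∑ β : Cfsg.IrrCharacter (G ⧸ N),
        Cfsg.classInner φ (((β : G ⧸ N → ℂ) ∘ QuotientGroup.mk' N) * ξ) = 0 :=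
      Finset.sum_eq_zero fun β _ => Char.classInner_irr_ne hφ
        (CharExt.isIrrCharacter_mul N ξ hξ hξN (infl_irr N β.2) (infl_inv N _)) (hall β)
    rw [← Char.classInner_sum_right] at hz
    have hF : (∑ β : Cfsg.IrrCharacter (G ⧸ N), ((β : G ⧸ N → ℂ) ∘ QuotientGroup.mk' N) * ξ) =
        fun g => (if g ∈ N then (N.index : ℂ) else 0) * ξ g := by
      funext g
      rw [Finset.sum_apply, ← hsum g, Finset.sum_mul]
      rfl
    rw [hF, Cfsg.classInner] at hz
    have h1 : ∑ g : G, φ g * conj ((if g ∈ N then (N.index : ℂ) else 0) * ξ g) =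
        (N.index : ℂ) * ∑ n : N, φ n * conj (θ n) := by
      rw [Finset.mul_sum, ← Finset.sum_subtype (Finset.univ.filter (· ∈ N)) (by simp)
        (fun g => (N.index : ℂ) * (φ g * conj (ξ g))) |>.trans
        (Finset.sum_congr rfl fun n _ => by rw [hres]), Finset.sum_filter]
      refine Finset.sum_congr rfl fun g _ => ?_
      split_ifs
      · rw [map_mul, Complex.conj_natCast]; ring
      · simp
    rw [h1, mul_eq_zero, mul_eq_zero] at hz
    have h2 : ∑ n : N, φ n * conj (θ n) = 0 :=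
      (hz.resolve_left (inv_ne_zero (Nat.cast_ne_zero.2 Nat.card_pos.ne'))).resolve_left
        (Nat.cast_ne_zero.2 Subgroup.index_ne_zero_of_finite)
    rw [Cfsg.classInner, h2, mul_zero]
  obtain ⟨d, -, hd⟩ := Char.irr_one_pos hθ
  have h1 : φ 1 = (d : ℂ) := by
    rw [hβ, Pi.mul_apply, Function.comp_apply, map_one, quot_linear N hcop hidx hone hnil β,
      one_mul, ← hd, ← hres, OneMemClass.coe_one]
  rw [charDegree_eq h1]
  intro hdd
  obtain ⟨d', -, hd', h2⟩ := Char.irr_degree_dvd_card hθ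
  rw [Nat.cast_inj.1 (hd'.symm.trans hd)] at h2
  exact hp.out.ne_one (Nat.eq_one_of_dvd_coprimes hcop.symm dvd_rfl (hdd.trans h2))

/-- The conclusion. -/
theorem unique_class : Nat.card {C : ConjClasses G // p ∣ Nat.card C.carrier} = 1 := by
  have hab := commutator_mem N hcop hidx hone hnil
  obtain ⟨⟨χ₀, hχ₀d⟩⟩ := (Nat.card_eq_one_iff_unique.1 hone).2
  obtain ⟨θ₀, e₀, hθ₀, he₀, hres₀, -⟩ := CharInd.clifford_exists N χ₀.2
  set T := CharInd.conjStab N θ₀ with hT
  have hNT : N ≤ T := CharInd.le_conjStab N (Char.irr_isClassFunction hθ₀)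
  have hinner : ∀ θ : Cfsg.IrrCharacter N,
      Cfsg.classInner (fun n : N => (χ₀ : G → ℂ) n) (θ : N → ℂ) ≠ 0 ↔
        (θ : N → ℂ) ∈ CharInd.conjClass N θ₀ := by
    intro θ
    have hirr : ∀ ψ ∈ CharInd.conjClass N θ₀, Cfsg.IsIrrCharacter N ψ := fun ψ hψ => by
      obtain ⟨x, rfl⟩ := (CharInd.mem_conjClass N).1 hψ
      exact CharInd.conjChar_irr N x hθ₀
    rw [hres₀, Char.classInner_smul_left, Char.classInner_sum_left,
      Finset.sum_congr rfl fun ψ hψ => Char.classInner_irr (hirr ψ hψ) θ.2]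
    rw [Finset.sum_ite_eq']
    constructor
    · intro h; by_contra hn; rw [if_neg hn, mul_zero] at h; exact h rfl
    · intro h; rw [if_pos h, mul_one]; exact_mod_cast he₀.ne'
  have hT' : T ≠ ⊤ := fun e => not_dvd_of_invariant N hcop hidx hone hnil χ₀.2 hθ₀
    ((hinner ⟨θ₀, hθ₀⟩).2 (CharExt.mem_conjClass_self N θ₀)) e hχ₀d
  -- moved characters form the orbit of `θ₀`
  have hmoved : ∀ θ : Cfsg.IrrCharacter N,
      CharInd.conjStab N (θ : N → ℂ) ≠ ⊤ ↔ (θ : N → ℂ) ∈ CharInd.conjClass N θ₀ := by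
    intro θ
    constructor
    · intro hne
      obtain ⟨φ, m, hm, hφ⟩ := Char.exists_irr_constituent
        (CharInd.isCharacter_indFun N (Char.isCharacter_of_irr θ.2)) (fun e => by
          have h := congrFun e 1
          rw [CharInd.indFun_one_apply, Pi.zero_apply, mul_eq_zero] at h
          exact h.elim (Nat.cast_ne_zero.2 Subgroup.index_ne_zero_of_finite)
            (Char.irr_one_ne_zero θ.2))
      have h0 : Cfsg.classInner (fun n : N => (φ : G → ℂ) n) (θ : N → ℂ) ≠ 0 := by
        rw [CharInd.classInner_indFun_left N _ (Char.irr_isClassFunction φ.2)] at hφ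
        rw [← Char.classInner_conj, hφ, map_natCast]
        exact_mod_cast hm.ne'
      refine (hinner θ).1 ?_
      rw [← singular_unique hone φ.2 χ₀.2 (dvd_of_moved N hcop hidx φ.2 θ.2 h0 hne) hχ₀d]
      exact h0
    · intro h e
      exact not_dvd_of_invariant N hcop hidx hone hnil χ₀.2 θ.2 ((hinner θ).2 h) e hχ₀d
  have hTconj : ∀ θ : Cfsg.IrrCharacter N, (θ : N → ℂ) ∈ CharInd.conjClass N θ₀ →
      ∀ g, (g ∈ CharInd.conjStab N (θ : N → ℂ) ↔ g ∈ T) := by
    intro θ hθ g
    obtain ⟨x, hx⟩ := (CharInd.mem_conjClass N).1 hθ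
    have hmemT : ∀ y : G, y ∈ T → x * y * x⁻¹ ∈ T ∧ x⁻¹ * y * x ∈ T := by
      intro y hy
      have e1 : x * y * x⁻¹ = ⁅x, y⁆ * y := by rw [commutatorElement_def]; group
      have e2 : x⁻¹ * y * x = ⁅x⁻¹, y⁆ * y := by rw [commutatorElement_def]; group
      rw [e1, e2]
      exact ⟨mul_mem (hNT (hab _ _)) hy, mul_mem (hNT (hab _ _)) hy⟩
    rw [CharInd.mem_conjStab, hx, ← CharInd.conjChar_mul]
    constructor
    · intro h
      have h' : x * g * x⁻¹ ∈ T := by
        show CharInd.conjChar N (x * g * x⁻¹) θ₀ = θ₀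
        rw [CharInd.conjChar_mul, h, ← CharInd.conjChar_mul, mul_inv_cancel, CharInd.conjChar_one]
      simpa [mul_assoc] using (hmemT _ h').2
    · intro h
      have h' : CharInd.conjChar N (x * g * x⁻¹) θ₀ = θ₀ := (hmemT g h).1
      calc CharInd.conjChar N (x * g) θ₀ = CharInd.conjChar N (x * g * x⁻¹ * x) θ₀ := by
            rw [inv_mul_cancel_right]
        _ = CharInd.conjChar N x θ₀ := by rw [CharInd.conjChar_mul, h']
  -- classes
  let α : G → (N ≃* N) := fun g => MulAut.conjNormal g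
  let FixC : G → Set (ConjClasses N) := fun g => {K | ConjClasses.map (α g).toMonoidHom K = K}
  let AllC : Set (ConjClasses N) := {K | ∀ g, K ∈ FixC g}
  let FixI : G → Set (Cfsg.IrrCharacter N) := fun g => {θ | g ∈ CharInd.conjStab N (θ : N → ℂ)}
  let AllI : Set (Cfsg.IrrCharacter N) := {θ | ∀ g, θ ∈ FixI g}
  have hbr : ∀ g, (FixC g).ncard = (FixI g).ncard := by
    intro g
    rw [← Nat.card_coe_set_eq, ← Nat.card_coe_set_eq]
    refine (CharInd.brauer_perm (α g)).trans (Nat.card_congr (Equiv.subtypeEquivRight fun θ => ?_))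
    show _ ↔ CharInd.conjChar N g (θ : N → ℂ) = θ
    rw [CharInd.conjChar_eq_comp]
    rfl
  have hNmap : ∀ (m : N) (K : ConjClasses N), K ∈ FixC m := by
    intro m K
    obtain ⟨n, rfl⟩ := ConjClasses.exists_rep K
    show ConjClasses.mk _ = ConjClasses.mk n
    rw [ConjClasses.mk_eq_mk_iff_isConj, isConj_iff]
    exact ⟨m⁻¹, Subtype.ext (by simp [α, mul_assoc])⟩
  have hFmul : ∀ a b K, K ∈ FixC a → K ∈ FixC b → K ∈ FixC (a * b) := by
    intro a b K ha hb
    obtain ⟨n, rfl⟩ := ConjClasses.exists_rep K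
    show ConjClasses.mk (α (a * b) n) = _
    have e : α (a * b) n = α a (α b n) := Subtype.ext (by simp [α, mul_assoc])
    rw [e]
    have hb' : ConjClasses.mk (α b n) = ConjClasses.mk n := hb
    have ha' : ConjClasses.mk (α a n) = ConjClasses.mk n := ha
    rw [← ha']
    exact congrArg (ConjClasses.map (α a).toMonoidHom) hb'
  -- Glauberman: as many invariant classes as invariant characters
  obtain ⟨P⟩ : Nonempty (Sylow p G) := inferInstance
  have hP : (P : Subgroup G) ⊔ N = ⊤ := by
    refine Subgroup.index_eq_one.1 ?_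
    refine Nat.eq_one_of_dvd_coprimes (a := (P : Subgroup G).index) (b := N.index) ?_
      (Subgroup.index_dvd_of_le le_sup_left) (Subgroup.index_dvd_of_le le_sup_right)
    rw [hidx]
    exact Nat.Coprime.pow_right k ((hp.out.coprime_iff_not_dvd.2 P.not_dvd_index).symm)
  have hgen : ∀ g : G, ∃ s ∈ (P : Subgroup G), ∃ m : N, g = s * m := by
    intro g
    have : g ∈ (P : Subgroup G) ⊔ N := hP ▸ Subgroup.mem_top g
    rw [← SetLike.mem_coe, Subgroup.mul_normal] at this
    obtain ⟨s, hs, m, hm, rfl⟩ := Set.mem_mul.1 this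
    exact ⟨s, hs, ⟨m, hm⟩, rfl⟩
  have hglau : AllC.ncard = AllI.ncard := by
    obtain ⟨j, hj⟩ := P.2.exists_card_eq
    haveI : Group.IsNilpotent P := P.2.isNilpotent
    rw [← Nat.card_coe_set_eq, ← Nat.card_coe_set_eq]
    refine Eq.symm ((Nat.card_congr (Equiv.subtypeEquivRight fun θ => ?_)).trans
      ((Cfsg.Agent.S4445.result N (P : Subgroup G) (fun s _ g hg => hN.conj_mem g hg s)
        (hj ▸ Nat.Coprime.pow_right j hcop) inferInstance).trans
        (Nat.card_congr (Equiv.subtypeEquivRight fun K => ?_))))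
    · show (∀ g, θ ∈ FixI g) ↔ _
      constructor
      · intro h s _ g g' hg'
        rw [← congrFun ((CharInd.mem_conjStab N).1 (h s)) g, CharInd.conjChar_apply]
        exact congrArg _ (Subtype.ext hg')
      · intro h g
        obtain ⟨s, hs, m, rfl⟩ := hgen g
        refine mul_mem ?_ (CharInd.le_conjStab N (Char.irr_isClassFunction θ.2) m.2)
        exact funext fun n => h s hs n _ rfl
    · show _ ↔ ∀ g, K ∈ FixC g
      constructor
      · intro h g
        obtain ⟨s, hs, m, rfl⟩ := hgen g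
        refine hFmul _ _ _ ?_ (hNmap m K)
        obtain ⟨n, rfl⟩ := ConjClasses.exists_rep K
        exact h s hs n (α s n) (by simp [α]) rfl
      · intro h s _ g g' hg' hK
        subst hK
        have h' : ConjClasses.mk (α s g) = ConjClasses.mk g := h s
        rw [← h']
        exact congrArg _ (Subtype.ext (by simp [α, hg']))
  -- stabilisers of moved classes are `T`
  have hkI : Nat.card (ConjClasses N) = Nat.card (Cfsg.IrrCharacter N) :=
    Char.card_irr_eq_card_conjClasses.symm
  have hcase : ∀ g, (g ∈ T → ∀ K, K ∈ FixC g) ∧ (g ∉ T → ∀ K, K ∈ FixC g → K ∈ AllC) := by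
    intro g
    have hI : (g ∈ T → FixI g = Set.univ) ∧ (g ∉ T → FixI g = AllI) := by
      refine ⟨fun hg => Set.eq_univ_of_forall fun θ => ?_, fun hg => Set.ext fun θ => ⟨fun h => ?_,
        fun h => h g⟩⟩
      · by_cases hθ : CharInd.conjStab N (θ : N → ℂ) = ⊤
        · show g ∈ CharInd.conjStab N (θ : N → ℂ); rw [hθ]; trivial
        · exact (hTconj θ ((hmoved θ).1 hθ) g).2 hg
      · intro g'
        by_cases hθ : CharInd.conjStab N (θ : N → ℂ) = ⊤
        · show g' ∈ CharInd.conjStab N (θ : N → ℂ); rw [hθ]; trivial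
        · exact absurd ((hTconj θ ((hmoved θ).1 hθ) g).1 h) hg
    constructor
    · intro hg K
      have h := hbr g
      rw [hI.1 hg, Set.ncard_univ, ← hkI, ← Set.ncard_univ] at h
      have := Set.eq_of_subset_of_ncard_le (Set.subset_univ (FixC g)) h.ge (Set.toFinite _)
      rw [this]; trivial
    · intro hg K hK
      have hsub : AllC ⊆ FixC g := fun K hK => hK g
      have h := hbr g
      rw [hI.2 hg, ← hglau] at h
      rwa [← Set.eq_of_subset_of_ncard_le hsub h.le (Set.toFinite _)] at hK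
  -- `T = N`
  have hTN : T = N := by
    refine le_antisymm (fun g hg => ?_) hNT
    by_contra hgN
    obtain ⟨e, e', he, he', hgee⟩ := exists_parts N hcop hidx g
    set x := g ^ e with hxdef
    have hxN : x ∉ N := fun h => hgN (hgee ▸ mul_mem h (he' g))
    have hxT : x ∈ T := pow_mem hg e
    have hxk : x ^ p ^ k = 1 := he g
    -- `x` centralises `N`
    have hxc : ∀ n : N, x * (n : G) = (n : G) * x := by
      have htop : (centralizer ({x} : Set G)).subgroupOf N = ⊤ := by
        refine FGSev.eq_top_of_forall_conj_mem _ fun n => ?_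
        have hK : ConjClasses.mk (α x n) = ConjClasses.mk n := (hcase x).1 hxT (ConjClasses.mk n)
        obtain ⟨m, hm⟩ := isConj_iff.1 (ConjClasses.mk_eq_mk_iff_isConj.1 hK)
        have hm' : (m : G) * (x * (n : G) * x⁻¹) * (m : G)⁻¹ = (n : G) := by
          simpa [α] using congrArg Subtype.val hm
        have hg' : ((m : G) * x) * (n : G) = (n : G) * ((m : G) * x) := by
          conv_rhs => rw [← hm']
          group
        obtain ⟨d, d', hd, hd', hdd⟩ := exists_parts N hcop hidx ((m : G) * x)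
        set x' := ((m : G) * x) ^ d with hx'
        have hx'n : x' * (n : G) = (n : G) * x' := (Commute.pow_left hg' d)
        have hmem : x⁻¹ * x' ∈ N := by
          have h1 : x' = (m : G) * x * (((m : G) * x) ^ d')⁻¹ := by
            rw [eq_mul_inv_iff_mul_eq]; exact hdd.symm
          rw [h1, ← mul_assoc, ← mul_assoc]
          exact mul_mem (by simpa [mul_assoc] using hN.conj_mem _ m.2 x⁻¹) (inv_mem (hd' _))
        have hcopz : ∀ y : G, y ^ p ^ k = 1 → (Nat.card (zpowers y)).Coprime (Nat.card N) :=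
          fun y hy => by
            rw [Nat.card_zpowers]
            exact (Nat.Coprime.pow_left k hcop.symm).coprime_dvd_left
              (orderOf_dvd_of_pow_eq_one hy)
        obtain ⟨c, hc, hcx⟩ := Coprime.complement_conj (A := zpowers x) (B := zpowers x') (K := N)
          Subgroup.le_normalizer_of_normal (hcopz x hxk) (hcopz x' (hd _)) (by
            refine le_antisymm (sup_le ?_ le_sup_right) (sup_le ?_ le_sup_right) <;>
              rw [zpowers_le]
            · have := mul_mem (Subgroup.mem_sup_left (mem_zpowers x) : x ∈ zpowers x ⊔ N)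
                (Subgroup.mem_sup_right hmem)
              simpa using this
            · have := mul_mem (Subgroup.mem_sup_left (mem_zpowers x') : x' ∈ zpowers x' ⊔ N)
                (Subgroup.mem_sup_right (inv_mem hmem))
              simpa using this)
          (Or.inl inferInstance)
        refine ⟨⟨c, hc⟩, ?_⟩
        rw [Subgroup.mem_subgroupOf, mem_centralizer_singleton_iff]
        have hxin : c * x * c⁻¹ ∈ zpowers x' := by
          rw [hcx]
          exact ⟨x, mem_zpowers x, rfl⟩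
        obtain ⟨i, hi⟩ := mem_zpowers_iff.1 hxin
        have hcn : c * x * c⁻¹ * (n : G) = (n : G) * (c * x * c⁻¹) := by
          rw [← hi]; exact (Commute.zpow_left hx'n i).eq
        simp only [InvMemClass.coe_inv, MulMemClass.coe_mul]
        calc c⁻¹ * (n : G) * c * x = c⁻¹ * ((n : G) * (c * x * c⁻¹)) * c := by group
          _ = c⁻¹ * (c * x * c⁻¹ * (n : G)) * c := by rw [hcn]
          _ = x * (c⁻¹ * (n : G) * c) := by group
      intro n
      have : n ∈ (centralizer ({x} : Set G)).subgroupOf N := htop ▸ Subgroup.mem_top n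
      exact (mem_centralizer_singleton_iff.1 (Subgroup.mem_subgroupOf.1 this)).symm
    -- so `x` is central
    have hxz : centralizer ({x} : Set G) = ⊤ := by
      have h1 := centralizer_mul_sup N hcop hidx hab hxk (Commute.one_right x) (by
        rw [eq_top_iff]
        refine fun y _ => Subgroup.mem_sup_left (mem_centralizer_singleton_iff.2 ?_)
        rw [mul_one, one_mul])
      rw [mul_one] at h1
      rw [eq_top_iff, ← h1]
      exact sup_le le_rfl fun n hn => mem_centralizer_singleton_iff.2 (hxc ⟨n, hn⟩).symm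
    -- a linear character moves `χ₀`
    obtain ⟨β, hβ⟩ : ∃ β : Cfsg.IrrCharacter (G ⧸ N),
        (β : G ⧸ N → ℂ) (QuotientGroup.mk' N x) ≠ 1 := by
      by_contra hall
      simp only [not_exists, ne_eq, not_not] at hall
      have h := Char.sum_irr_degree_mul (G := G ⧸ N) (QuotientGroup.mk' N x)
      rw [if_neg (show ¬ QuotientGroup.mk' N x = 1 from fun e => hxN ((QuotientGroup.eq_one_iff x).1 e)),
        Finset.sum_congr rfl (g := fun _ => (1 : ℂ)) (fun β _ => by
          rw [quot_linear N hcop hidx hone hnil β, hall β, one_mul]),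
        Finset.sum_const, nsmul_one, Nat.cast_eq_zero, Finset.card_univ,
        Fintype.card_eq_zero_iff] at h
      exact h.false (Char.trivialIrr _)
    set l : G → ℂ := (β : G ⧸ N → ℂ) ∘ QuotientGroup.mk' N with hl
    have hli : Cfsg.IsIrrCharacter G l := infl_irr N β.2
    have hl1 : l 1 = 1 := by
      simp only [hl, Function.comp_apply, map_one, quot_linear N hcop hidx hone hnil β]
    have hmul : Cfsg.IsIrrCharacter G (l * (χ₀ : G → ℂ)) := by
      refine Char.isIrrCharacter_iff_classInner.2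
        ⟨Char.isCharacter_mul (Char.isCharacter_of_irr hli) (Char.isCharacter_of_irr χ₀.2), ?_⟩
      rw [← Char.classInner_irr_self χ₀.2, Cfsg.classInner, Cfsg.classInner]
      congr 1
      refine Finset.sum_congr rfl fun y _ => ?_
      have hy : l y * conj (l y) = 1 := by
        have hlin := CharExt.isLin_of_isCharacter (Char.isCharacter_of_irr hli) hl1
        obtain ⟨d, hd⟩ : ∃ d : ℕ, 0 < d ∧ (hlin.toHom y) ^ d = 1 :=
          ⟨orderOf y, orderOf_pos y, by rw [← map_pow, pow_orderOf_eq_one, map_one]⟩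
        have hn : ‖l y‖ = 1 := by
          rw [← hlin.toHom_apply]
          refine Complex.norm_eq_one_of_pow_eq_one ?_ hd.1.ne'
          rw [← Units.val_pow_eq_pow_val, hd.2, Units.val_one]
        rw [Complex.mul_conj, Complex.normSq_eq_norm_sq, hn]; norm_num
      simp only [Pi.mul_apply, map_mul]
      linear_combination (χ₀ : G → ℂ) y * conj ((χ₀ : G → ℂ) y) * hy
    have heq := congrFun (singular_unique hone hmul χ₀.2 (by
      obtain ⟨d, -, hd⟩ := Char.irr_one_pos χ₀.2
      rw [charDegree_eq (show (l * (χ₀ : G → ℂ)) 1 = (d : ℂ) by rw [Pi.mul_apply, hl1, one_mul, hd])]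
      rwa [charDegree_eq hd] at hχ₀d) hχ₀d) x
    have hnz : (χ₀ : G → ℂ) x ≠ 0 := by
      intro h0
      have h := Char.sum_irr_mul_conj x x
      obtain ⟨n, ρ, hρ, hc⟩ := χ₀.2
      haveI := hρ
      obtain ⟨c, hc'⟩ := CharExt.exists_scalar_of_commute ρ (ρ x) (fun y => by
        show ρ x * ρ y = ρ y * ρ x
        rw [← map_mul, ← map_mul,
          mem_centralizer_singleton_iff.1 (hxz ▸ Subgroup.mem_top y : y ∈ centralizer ({x} : Set G))])
      have hn : Module.finrank ℂ (Fin n → ℂ) ≠ 0 := fun e => Char.irr_one_ne_zero χ₀.2 (by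
        rw [← hc, Representation.char_one, e, Nat.cast_zero])
      rw [← hc] at h0
      have h1 : ρ.character x = c * (Module.finrank ℂ (Fin n → ℂ) : ℂ) := by
        simp [Representation.character, hc']
      rw [h0, eq_comm, mul_eq_zero] at h1
      have hc0 : c = 0 := h1.resolve_right (Nat.cast_ne_zero.2 hn)
      have h2 : (1 : Module.End ℂ (Fin n → ℂ)) = 0 := by
        rw [← map_one ρ, ← mul_inv_cancel x, map_mul, hc', hc0, zero_smul, zero_mul]
      have h3 := congrArg (LinearMap.trace ℂ (Fin n → ℂ)) h2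
      rw [LinearMap.trace_one, map_zero, Nat.cast_eq_zero] at h3
      exact hn h3
    rw [Pi.mul_apply] at heq
    exact hβ (mul_right_cancel₀ hnz (heq.trans (one_mul _).symm))
  rw [hTN] at hcase hT'
  -- classes of `N` moved by `G`
  have hstab : ∀ n : N, ∀ g, ConjClasses.mk n ∈ FixC g ↔
      g ∈ centralizer ({(n : G)} : Set G) ⊔ N := by
    intro n g
    constructor
    · intro h
      have h' : ConjClasses.mk (α g n) = ConjClasses.mk n := h
      obtain ⟨m, hm⟩ := isConj_iff.1 (ConjClasses.mk_eq_mk_iff_isConj.1 h')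
      have hm' : (m : G) * (g * (n : G) * g⁻¹) * (m : G)⁻¹ = (n : G) := by
        simpa [α] using congrArg Subtype.val hm
      rw [show g = (m : G)⁻¹ * ((m : G) * g) by group]
      refine mul_mem (Subgroup.mem_sup_right (inv_mem m.2))
        (Subgroup.mem_sup_left (mem_centralizer_singleton_iff.2 ?_))
      conv_rhs => rw [← hm']
      group
    · intro h
      rw [← SetLike.mem_coe, Subgroup.mul_normal] at h
      obtain ⟨c, hc, m, hm, rfl⟩ := Set.mem_mul.1 h
      refine hFmul _ _ _ ?_ (hNmap ⟨m, hm⟩ _)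
      show ConjClasses.mk (α c n) = ConjClasses.mk n
      exact congrArg _ (Subtype.ext (by
        simp [α, mem_centralizer_singleton_iff.1 hc]))
  -- a singular class lies in `N` and is moved
  have hsing : ∀ g : G, p ∣ Nat.card (ConjClasses.mk g).carrier →
      ∃ n : N, (n : G) = g ∧ ConjClasses.mk n ∉ AllC := by
    intro g hg
    rw [dvd_card_carrier_iff N hcop hidx] at hg
    obtain ⟨e, e', he, he', hgee⟩ := exists_parts N hcop hidx g
    by_cases hgN : g ∈ N
    · refine ⟨⟨g, hgN⟩, rfl, fun h => hg (eq_top_iff.2 fun y _ => ?_)⟩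
      exact (hstab ⟨g, hgN⟩ y).1 (h y)
    · exfalso
      have hxN : g ^ e ∉ N := fun h => hgN (hgee ▸ mul_mem h (he' g))
      have hfix : ConjClasses.mk (⟨g ^ e', he' g⟩ : N) ∈ AllC :=
        (hcase (g ^ e)).2 hxN _ ((hstab _ _).2 (Subgroup.mem_sup_left
          (mem_centralizer_singleton_iff.2 (Commute.pow_pow_self g e e').eq)))
      refine hg ?_
      rw [hgee]
      exact centralizer_mul_sup N hcop hidx hab (he g) (Commute.pow_pow_self g e e')
        (eq_top_iff.2 fun y _ => (hstab ⟨g ^ e', he' g⟩ y).1 (hfix y))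
  -- count of the moved classes
  have hbI : (AllIᶜ : Set (Cfsg.IrrCharacter N)).ncard = N.index := by
    rw [← show T.index = N.index by rw [hTN], hT, ← CharInd.card_conjClass, ← Set.ncard_coe_finset,
      ← Set.ncard_image_of_injective _ (Subtype.val_injective (p := Cfsg.IsIrrCharacter N))]
    congr 1
    ext ψ
    constructor
    · rintro ⟨θ, hθ, rfl⟩
      exact (hmoved θ).1 fun e => hθ fun g => by
        show g ∈ CharInd.conjStab N (θ : N → ℂ)
        rw [e]; trivial
    · intro hψ
      obtain ⟨x, hx⟩ := (CharInd.mem_conjClass N).1 hψ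
      have hi : Cfsg.IsIrrCharacter N ψ := hx ▸ CharInd.conjChar_irr N x hθ₀
      exact ⟨⟨ψ, hi⟩, fun h => (hmoved ⟨ψ, hi⟩).2 hψ ((Subgroup.eq_top_iff' _).2 h), rfl⟩
  have hb : (AllCᶜ : Set (ConjClasses N)).ncard = N.index := by
    rw [Set.ncard_compl, hglau, hkI, ← Set.ncard_compl, hbI]
  -- the orbit of a moved class is everything moved
  have horbit : ∀ n n' : N, ConjClasses.mk n ∉ AllC → ConjClasses.mk n' ∉ AllC →
      ∃ g : G, ConjClasses.mk (α g n) = ConjClasses.mk n' := by
    intro n n' hn hn'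
    let O : G ⧸ N → ConjClasses N := fun c => ConjClasses.mk (α c.out n)
    have hinj : Function.Injective O := by
      intro a b hab'
      rw [← QuotientGroup.out_eq' a, ← QuotientGroup.out_eq' b]
      refine QuotientGroup.eq.2 ?_
      by_contra hne
      refine hn ((hcase (a.out⁻¹ * b.out)).2 hne _ ?_)
      show ConjClasses.mk (α (a.out⁻¹ * b.out) n) = _
      have e : α (a.out⁻¹ * b.out) n = α a.out⁻¹ (α b.out n) :=
        Subtype.ext (by simp [α, mul_assoc])
      have e2 : α a.out⁻¹ (α a.out n) = n := Subtype.ext (by simp [α, mul_assoc])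
      rw [e]
      conv_rhs => rw [← e2]
      exact congrArg (ConjClasses.map (α a.out⁻¹).toMonoidHom) hab'.symm
    have hsub : Set.range O ⊆ (AllCᶜ : Set (ConjClasses N)) := by
      rintro _ ⟨c, rfl⟩ h
      refine hn fun g => ?_
      have h1 : ConjClasses.mk (α (c.out * g * c.out⁻¹) (α c.out n)) =
          ConjClasses.mk (α c.out n) := h (c.out * g * c.out⁻¹)
      have h2 := congrArg (ConjClasses.map (α c.out⁻¹).toMonoidHom) h1
      show ConjClasses.mk (α g n) = _
      convert h2 using 1 <;> exact congrArg _ (Subtype.ext (by simp [α]))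
    have heq : Set.range O = (AllCᶜ : Set (ConjClasses N)) := by
      refine Set.eq_of_subset_of_ncard_le hsub ?_ (Set.toFinite _)
      rw [hb, Set.ncard_range_of_injective hinj, Subgroup.index_eq_card]
    have : ConjClasses.mk n' ∈ Set.range O := heq.symm ▸ hn'
    obtain ⟨c, hc⟩ := this
    exact ⟨c.out, hc⟩
  obtain ⟨K, hK⟩ : (AllCᶜ : Set (ConjClasses N)).Nonempty := by
    rw [← Set.ncard_pos (Set.toFinite _), hb]
    exact Nat.pos_of_ne_zero Subgroup.index_ne_zero_of_finite
  obtain ⟨n₀, rfl⟩ := ConjClasses.exists_rep K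
  have hn₀ : p ∣ Nat.card (ConjClasses.mk (n₀ : G)).carrier := by
    rw [dvd_card_carrier_iff N hcop hidx]
    intro htop
    exact hK fun g => (hstab n₀ g).2 (htop ▸ Subgroup.mem_top g)
  rw [Nat.card_eq_one_iff_unique]
  refine ⟨⟨fun C D => Subtype.ext ?_⟩, ⟨⟨_, hn₀⟩⟩⟩
  obtain ⟨g, hg⟩ := ConjClasses.exists_rep C.1
  obtain ⟨g', hg'⟩ := ConjClasses.exists_rep D.1
  obtain ⟨n, hn, hn1⟩ := hsing g (by rw [hg]; exact C.2)
  obtain ⟨n', hn', hn2⟩ := hsing g' (by rw [hg']; exact D.2)
  obtain ⟨c, hc⟩ := horbit n n' hn1 hn2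
  obtain ⟨m, hm⟩ := isConj_iff.1 (ConjClasses.mk_eq_mk_iff_isConj.1 hc)
  have hm' : (m : G) * (c * (n : G) * c⁻¹) * (m : G)⁻¹ = (n' : G) := by
    simpa [α] using congrArg Subtype.val hm
  rw [← hg, ← hg', ConjClasses.mk_eq_mk_iff_isConj, isConj_iff]
  exact ⟨(m : G) * c, by rw [← hn, ← hn', ← hm']; group⟩

end Cfsg.Agent.Char9
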